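import Cfsg.Agent.Helper96.Sz8.CertB.Facts0
import Cfsg.Agent.Helper96.Sz8.CertB.Facts1
import Cfsg.Agent.Helper96.Sz8.CertB.Misc
import Cfsg.Agent.Helper96.Sz8.CertB.Perm0
import Cfsg.Agent.Helper96.Sz8.CertB.Perm1
import Cfsg.Agent.Helper96.Sz8.CertB.Perm2
import Cfsg.Agent.Helper96.Sz8.CertB.Perm3
set_option autoImplicit false
namespace Cfsg.Agent.Helper96.Sz8.CertB
open Cfsg.Agent.Helper28
theorem perm_all : ∀ r, 1 ≤ r → r < 40 → relOk ptabs (tabs.word r) 0 ptabs.n = true := by
  intro r h1 h2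
  by_cases c13 : r < 13
  · exact permRange_sound ptabs tabs.word letTr.get 8 255 perm_eq 1 12 perm_ok_1 r (by omega) (by omega)
  by_cases c25 : r < 25
  · exact permRange_sound ptabs tabs.word letTr.get 8 255 perm_eq 13 12 perm_ok_13 r (by omega) (by omega)
  by_cases c37 : r < 37
  · exact permRange_sound ptabs tabs.word letTr.get 8 255 perm_eq 25 12 perm_ok_25 r (by omega) (by omega)
  by_cases c40 : r < 40
  · exact permRange_sound ptabs tabs.word letTr.get 8 255 perm_eq 37 3 perm_ok_37 r (by omega) (by omega)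
  omega
theorem subfix_all : ∀ r, r < 1 → relOk ptabs (tabs.word r) 0 1 = true := allLt_sound _ _ subfix_ok
end Cfsg.Agent.Helper96.Sz8.CertB
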